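import Mathlib
import Groth.Prelude.Def_W4c5grrsingularflatDSeq
import Groth.Agent.LC.DepthExt
import Groth.Agent.LC.GorLoc

/-! A prime generated by one more element than its height, at which the ring is regular, is generated by a d-sequence. -/

set_option autoImplicit false
set_option linter.style.haveILetI false
set_option linter.unusedSectionVars false

universe u

open RingTheory.Sequence IsLocalRing

namespace Groth.Agent.DSeq7

variable {T : Type u} [CommRing T]

/-- Davis' form of prime avoidance. -/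
theorem exists_add_notMem (a : T) (J : Ideal T) (S : Finset (Ideal T)) (hS : ∀ q ∈ S, q.IsPrime)
    (hJ : ∀ q ∈ S, ¬ J ≤ q) : ∃ b ∈ J, ∀ q ∈ S, a + b ∉ q := by
  classical
  let M := S.filter (fun q => ∀ q' ∈ S, q ≤ q' → q' ≤ q)
  have hM : ∀ q ∈ S, ∃ m ∈ M, q ≤ m := fun q hq => by
    obtain ⟨m, hm, hmax⟩ := S.exists_le_maximal hq
    exact ⟨m, Finset.mem_filter.2 ⟨hmax.1, fun q' hq' h => hmax.2 hq' h⟩, hm⟩
  let A := M.filter (fun q => a ∈ q)
  let B := M.filter (fun q => a ∉ q)
  let J' := J * ∏ q ∈ B, q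
  have hnot : ∀ q ∈ A, ¬ J' ≤ q := by
    intro q hq h
    have hqM := (Finset.mem_filter.1 hq).1
    have hqS := (Finset.mem_filter.1 hqM).1
    haveI := hS q hqS
    rcases (Ideal.IsPrime.mul_le (hS q hqS)).1 h with h | h
    · exact hJ q hqS h
    · obtain ⟨q', hq', hle⟩ := (Ideal.IsPrime.prod_le (hS q hqS)).1 h
      have h1 := (Finset.mem_filter.1 (Finset.mem_filter.1 hq').1).2 q hqS hle
      exact (Finset.mem_filter.1 hq').2 (h1 (Finset.mem_filter.1 hq).2)
  have hsub : ¬ (J' : Set T) ⊆ ⋃ q ∈ (↑A : Set (Ideal T)), (q : Set T) := by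
    intro h
    rw [Ideal.subset_union_prime (⊥ : Ideal T) ⊥] at h
    · obtain ⟨q, hq, hle⟩ := h
      exact hnot q hq hle
    · intro q hq _ _
      exact hS q (Finset.mem_filter.1 (Finset.mem_filter.1 hq).1).1
  obtain ⟨b, hbJ, hb⟩ := Set.not_subset.1 hsub
  have hJJ : J' ≤ J := Ideal.mul_le_left
  refine ⟨b, hJJ hbJ, fun q hq hab => ?_⟩
  obtain ⟨m, hm, hqm⟩ := hM q hq
  have hab' : a + b ∈ m := hqm hab
  by_cases ha : a ∈ m
  · exact hb (Set.mem_biUnion (Finset.mem_coe.2 (Finset.mem_filter.2 ⟨hm, ha⟩)) ((Ideal.add_mem_iff_right m ha).1 hab'))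
  · have hmB : m ∈ B := Finset.mem_filter.2 ⟨hm, ha⟩
    have h1 : (∏ q ∈ B, q) ≤ m := by
      have h2 : (∏ q ∈ B, q) ≤ B.inf (fun q => q) := Ideal.prod_le_inf
      exact h2.trans (Finset.inf_le (f := fun q : Ideal T => q) hmB)
    have hJB : J' ≤ ∏ q ∈ B, q := Ideal.mul_le_right
    have hbm : b ∈ m := h1 (hJB hbJ)
    exact ha ((Ideal.add_mem_iff_left m hbm).1 hab')

variable [LocCoh.IsCohenMacaulayLocalRing T]

/-- An associated prime of the quotient by a regular sequence of length `i` has height `i`. -/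
theorem height_of_ass (L : List T) (hL : IsWeaklyRegular T L) (q : Ideal T)
    (hq : q ∈ associatedPrimes T (T ⧸ (Ideal.ofList L • ⊤ : Submodule T T))) :
    q.height = (L.length : ℕ∞) ∧ Ideal.ofList L ≤ q := by
  haveI hp : q.IsPrime := hq.isPrime
  have hann : Ideal.ofList L ≤ q := by
    refine le_trans ?_ hq.annihilator_le
    intro r hr
    rw [Submodule.mem_annihilator]
    rintro y -
    obtain ⟨z, rfl⟩ := Submodule.mkQ_surjective _ y
    rw [← map_smul, Submodule.mkQ_apply, Submodule.Quotient.mk_eq_zero]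
    exact Submodule.smul_mem_smul hr Submodule.mem_top
  refine ⟨?_, hann⟩
  have hmem : ∀ r ∈ L, r ∈ q := fun r hr => hann (Ideal.subset_span hr)
  have hqt : q • (⊤ : Submodule T T) ≠ ⊤ :=
    LC.smul_top_ne_top_of_le_maximal (M := T) (le_maximalIdeal hp.ne_top)
  have h0 : LocCoh.idealDepth q (T ⧸ (Ideal.ofList L • ⊤ : Submodule T T)) = 0 := by
    refine LC.idealDepth_eq_zero_of_forall q (LC.smul_top_quot_ne_top q hqt (LC.ofList_le q hmem)) ?_
    intro r hr hreg
    have hz : r ∈ ⋃ p ∈ associatedPrimes T (T ⧸ (Ideal.ofList L • ⊤ : Submodule T T)), (p : Set T) :=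
      Set.mem_biUnion hq hr
    rw [biUnion_associatedPrimes_eq_zero_divisors T _] at hz
    obtain ⟨y, hy0, hy⟩ := hz
    exact hy0 (hreg (hy.trans (smul_zero r).symm))
  have h := LC.idealDepth_quot_ofList (M := T) q hL hmem
  rw [h0, zero_add, LC.idealDepth_self_eq_height] at h
  exact h.symm

theorem isWeaklyRegular_concat_of_notMem (L : List T) (hL : IsWeaklyRegular T L) (x : T)
    (hx : ∀ q ∈ associatedPrimes T (T ⧸ (Ideal.ofList L • ⊤ : Submodule T T)), x ∉ q) :
    IsWeaklyRegular T (L ++ [x]) := by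
  rw [LC.isWeaklyRegular_concat_iff]
  refine ⟨hL, IsSMulRegular.of_right_eq_zero_of_smul fun y hy => ?_⟩
  by_contra hy0
  have hz : x ∈ ⋃ p ∈ associatedPrimes T (T ⧸ (Ideal.ofList L • ⊤ : Submodule T T)), (p : Set T) := by
    rw [biUnion_associatedPrimes_eq_zero_divisors T _]
    exact ⟨y, hy0, hy⟩
  obtain ⟨q, hq, hxq⟩ := Set.mem_iUnion₂.1 hz
  exact hx q hq hxq

/-- Perturbing `h = height p` elements by `p ^ 2` gives a regular sequence. -/
theorem exists_perturb (p : Ideal T) [p.IsPrime] : ∀ (h : ℕ) (a : Fin h → T), (h : ℕ∞) ≤ p.height →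
    ∃ t : Fin h → T, (∀ i, t i - a i ∈ p * p) ∧ IsWeaklyRegular T (List.ofFn t) := by
  classical
  intro h
  induction h with
  | zero =>
    intro a _
    exact ⟨a, fun i => Fin.elim0 i, by rw [List.ofFn_zero]; exact .nil T T⟩
  | succ n ih =>
    intro a hn
    obtain ⟨t, ht, hreg⟩ := ih (fun i => a i.castSucc) (le_trans (by exact_mod_cast Nat.le_succ n) hn)
    let Q := T ⧸ (Ideal.ofList (List.ofFn t) • ⊤ : Submodule T T)
    have hfin := associatedPrimes.finite T Q
    obtain ⟨b, hb, hbq⟩ := exists_add_notMem (a (Fin.last n)) (p * p) hfin.toFinset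
      (fun q hq => (hfin.mem_toFinset.1 hq).isPrime) (fun q hq hle => by
        haveI := (hfin.mem_toFinset.1 hq).isPrime
        have hpq : p ≤ q := ((Ideal.IsPrime.mul_le (P := q) inferInstance).1 hle).elim id id
        have h1 := (height_of_ass _ hreg q (hfin.mem_toFinset.1 hq)).1
        have h2 := Ideal.height_mono hpq
        rw [h1, List.length_ofFn] at h2
        have h3 : ((n + 1 : ℕ) : ℕ∞) ≤ (n : ℕ∞) := hn.trans h2
        exact absurd (ENat.natCast_le_natCast.1 h3) (by omega))
    refine ⟨Fin.snoc t (a (Fin.last n) + b), fun i => ?_, ?_⟩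
    · induction i using Fin.lastCases with
      | last => simpa using hb
      | cast i => simpa using ht i
    · rw [List.ofFn_succ', List.concat_eq_append]
      simp only [Fin.snoc_castSucc, Fin.snoc_last]
      exact isWeaklyRegular_concat_of_notMem _ hreg _ fun q hq => hbq q (hfin.mem_toFinset.2 hq)

omit [LocCoh.IsCohenMacaulayLocalRing T] in
theorem mem_ofList_colon {L : List T} {x y : T} :
    y ∈ (Ideal.ofList L).colon {x} ↔ x * y ∈ Ideal.ofList L := by
  rw [Submodule.mem_colon_singleton, smul_eq_mul, mul_comm]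

/-- The colon condition of a d-sequence at a regular position. -/
theorem colon_eq_of_regular (ts : List T) (i : ℕ) (hi : i < ts.length)
    (hreg : IsSMulRegular (T ⧸ (Ideal.ofList (ts.take i) • ⊤ : Submodule T T)) ts[i]) (z : T) :
    (Ideal.ofList (ts.take i)).colon {z * ts[i]} = (Ideal.ofList (ts.take i)).colon {z} := by
  ext y
  rw [mem_ofList_colon, mem_ofList_colon]
  refine ⟨fun hy => ?_, fun hy => ?_⟩
  · have hI : (Ideal.ofList (ts.take i) • ⊤ : Submodule T T) = Ideal.ofList (ts.take i) := by
      rw [smul_eq_mul, Ideal.mul_top]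
    have h0 : ts[i] • (Submodule.Quotient.mk (z * y) : T ⧸ (Ideal.ofList (ts.take i) • ⊤ : Submodule T T)) = 0 := by
      rw [← Submodule.Quotient.mk_smul, Submodule.Quotient.mk_eq_zero, hI, smul_eq_mul]
      rwa [show ts[i] * (z * y) = z * ts[i] * y by ring]
    have := hreg (h0.trans (smul_zero ts[i]).symm)
    rwa [Submodule.Quotient.mk_eq_zero, hI] at this
  · rw [show z * ts[i] * y = ts[i] * (z * y) by ring]
    exact Ideal.mul_mem_left _ _ hy

/-- The colon condition at the last element. -/
theorem mul_mem_of_sq (L : List T) (hL : IsWeaklyRegular T L) (p : Ideal T) [p.IsPrime]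
    (hh : p.height = (L.length : ℕ∞)) (a : T) (hgen : p ≤ Ideal.ofList L ⊔ Ideal.span {a})
    (s : T) (hs : s ∉ p) (hsp : s * a ∈ Ideal.ofList L) (y : T) (hy : a * a * y ∈ Ideal.ofList L) :
    a * y ∈ Ideal.ofList L := by
  by_contra hny
  have hI : (Ideal.ofList L • ⊤ : Submodule T T) = Ideal.ofList L := by rw [smul_eq_mul, Ideal.mul_top]
  let Q := T ⧸ (Ideal.ofList L • ⊤ : Submodule T T)
  let z : Q := Submodule.Quotient.mk (a * y)
  have hz : z ≠ 0 := by
    show (Submodule.Quotient.mk (a * y) : Q) ≠ 0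
    rw [Ne, Submodule.Quotient.mk_eq_zero, hI]; exact hny
  obtain ⟨q, hq, hle⟩ := exists_le_isAssociatedPrime_of_isNoetherianRing T z hz
  have key : ∀ r : T, r * (a * y) ∈ Ideal.ofList L → r ∈ q := fun r hr => hle (by
    rw [Submodule.mem_colon_singleton, Submodule.mem_bot]
    show r • (Submodule.Quotient.mk (a * y) : Q) = 0
    rw [← Submodule.Quotient.mk_smul, Submodule.Quotient.mk_eq_zero, hI]
    exact hr)
  haveI := hq.isPrime
  obtain ⟨hqh, hLq⟩ := height_of_ass L hL q hq
  have hpq : p ≤ q := hgen.trans (sup_le hLq (by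
    rw [Ideal.span_le, Set.singleton_subset_iff]
    exact key a (by rw [← mul_assoc]; exact hy)))
  haveI : p.FiniteHeight := inferInstance
  have he : p = q := by
    by_contra hne
    have := Ideal.height_strict_mono_of_isPrime (lt_of_le_of_ne hpq hne)
    rw [hqh, hh] at this
    exact lt_irrefl _ this
  refine hs (he ▸ key s ?_)
  rw [← mul_assoc]
  exact Ideal.mul_mem_right _ _ hsp

omit [LocCoh.IsCohenMacaulayLocalRing T] in
theorem isDSeq_minimal [IsNoetherianRing T] (p : Ideal T) (ts : List T) (hp : Ideal.ofList ts = p)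
    (hlen : ts.length ≤ Submodule.spanFinrank p) (i : Fin ts.length) :
    ts[i] ∉ Ideal.span (Set.range fun j : {j : Fin ts.length // j ≠ i} => ts[(j : Fin ts.length)]) := by
  intro hmem
  set s := Set.range fun j : {j : Fin ts.length // j ≠ i} => ts[(j : Fin ts.length)]
  have he : Ideal.span s = p := by
    refine le_antisymm (Ideal.span_le.2 ?_) (hp ▸ Ideal.span_le.2 ?_)
    · rintro _ ⟨j, rfl⟩
      exact hp ▸ Ideal.subset_span (List.getElem_mem _)
    · intro x hx
      obtain ⟨m, hm, rfl⟩ := List.getElem_of_mem hx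
      by_cases h : (⟨m, hm⟩ : Fin ts.length) = i
      · subst h; exact hmem
      · exact Ideal.subset_span ⟨⟨⟨m, hm⟩, h⟩, rfl⟩
  have h1 : (Submodule.span T s).spanFinrank ≤ s.ncard :=
    Submodule.spanFinrank_span_le_ncard_of_finite (Set.finite_range _)
  have h2 : s.ncard ≤ ts.length - 1 := by
    rw [← Nat.card_coe_set_eq]
    refine (Finite.card_range_le _).trans ?_
    rw [Nat.card_eq_fintype_card, Fintype.card_subtype_compl, Fintype.card_fin, Fintype.card_subtype_eq]
  rw [show Submodule.span T s = p from he] at h1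
  have := i.2
  omega

theorem exists_isDSeq (p : Ideal T) [p.IsPrime] (hgen : (Submodule.spanFinrank p : ℕ∞) ≤ p.height + 1)
    [IsRegularLocalRing (Localization.AtPrime p)] :
    ∃ ts : List T, Ideal.ofList ts = p ∧ W4c5grrsingularflat.IsDSeq ts := by
  classical
  have hfg : p.FG := IsNoetherian.noetherian p
  obtain ⟨h, hh⟩ : ∃ h : ℕ, p.height = h :=
    ⟨p.height.toNat, (ENat.natCast_toNat (Ideal.height_ne_top_of_isPrime)).symm⟩
  have hhc : h ≤ Submodule.spanFinrank p := by
    have := p.height_le_spanFinrank (Ideal.IsPrime.ne_top inferInstance)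
    rw [hh] at this; exact_mod_cast this
  rw [hh] at hgen
  have hc : Submodule.spanFinrank p ≤ h + 1 := by exact_mod_cast hgen
  let A := Localization.AtPrime p
  let α := algebraMap T A
  have hmax : p.map α = maximalIdeal A := IsLocalization.AtPrime.map_eq_maximalIdeal p A
  -- choose generators: h of them generating at p, plus at most one more
  obtain ⟨a, e, hspan, hloc, hlen⟩ : ∃ (a : Fin h → T) (e : List T),
      Ideal.span (Set.range a) ⊔ Ideal.ofList e = p ∧ (Ideal.span (Set.range a)).map α = maximalIdeal A ∧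
      h + e.length = Submodule.spanFinrank p := by
    obtain ⟨g, hg1, hg2⟩ := Submodule.FG.exists_span_finset_card_eq_spanFinrank hfg
    have hgp : Ideal.span (g : Set T) = p := hg2
    rcases hhc.eq_or_lt with heq | hlt
    · let ε := (g.equivFinOfCardEq (hg1.trans heq.symm)).symm
      have hr : Set.range (fun i => (ε i : T)) = (g : Set T) := by
        ext x; exact ⟨by rintro ⟨i, rfl⟩; exact (ε i).2, fun hx => ⟨ε.symm ⟨x, hx⟩, by simp⟩⟩
      refine ⟨fun i => ε i, [], ?_, ?_, by simpa using heq⟩
      · rw [hr, hgp, Ideal.ofList_nil, sup_bot_eq]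
      · rw [hr, hgp, hmax]
    · have hc' : g.card = h + 1 := by omega
      let v : g → CotangentSpace A := fun x => (maximalIdeal A).toCotangent ⟨α x, hmax ▸ Ideal.mem_map_of_mem α (hgp ▸ Ideal.subset_span x.2)⟩
      have hfr : Module.finrank (ResidueField A) (CotangentSpace A) = h := by
        have h1 := IsRegularLocalRing.spanFinrank_maximalIdeal (R := A)
        rw [IsLocalization.AtPrime.ringKrullDim_eq_height p A, hh,
          IsLocalRing.spanFinrank_maximalIdeal_eq_finrank_cotangentSpace] at h1
        exact_mod_cast h1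
      have hdep : ¬ LinearIndependent (ResidueField A) v := fun hli => by
        have := hli.fintype_card_le_finrank
        rw [Fintype.card_coe, hfr] at this; omega
      rw [linearIndependent_iff_notMem_span] at hdep
      push Not at hdep
      obtain ⟨l, hl⟩ := hdep
      let w : g → maximalIdeal A := fun x => ⟨α x, hmax ▸ Ideal.mem_map_of_mem α (hgp ▸ Ideal.subset_span x.2)⟩
      have hwv : ∀ x, (maximalIdeal A).toCotangent (w x) = v x := fun _ => rfl
      have hall : Submodule.span A (Set.range w) = ⊤ := by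
        apply Submodule.map_injective_of_injective (f := (maximalIdeal A).subtype) (Submodule.injective_subtype _)
        rw [Submodule.map_span, Submodule.map_top, Submodule.range_subtype, ← Set.range_comp]
        show Ideal.span (Set.range fun x : g => α x) = maximalIdeal A
        refine Eq.trans ?_ ((congrArg (Ideal.map α) hgp).trans hmax)
        rw [Ideal.map_span]
        congr 1; ext; simp
      have hrest : Submodule.span A (w '' {l}ᶜ) = ⊤ := by
        rw [← CotangentSpace.span_image_eq_top_iff]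
        rw [eq_top_iff, ← CotangentSpace.span_image_eq_top_iff.2 hall]
        refine Submodule.span_le.2 ?_
        rintro _ ⟨_, ⟨x, rfl⟩, rfl⟩
        by_cases hx : x = l
        · subst hx
          rw [hwv]
          refine Submodule.span_mono ?_ hl
          rintro _ ⟨y, hy, rfl⟩
          exact ⟨w y, ⟨y, by simpa [Set.compl_eq_univ_sdiff] using hy, rfl⟩, rfl⟩
        · exact Submodule.subset_span ⟨w x, ⟨x, hx, rfl⟩, rfl⟩
      have hgl : (g.erase l).card = h := by rw [Finset.card_erase_of_mem l.2]; omega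
      let ε := ((g.erase l).equivFinOfCardEq hgl).symm
      have hr : Set.range (fun i => (ε i : T)) = (↑(g.erase (l : T)) : Set T) := by
        ext x; exact ⟨by rintro ⟨i, rfl⟩; exact (ε i).2, fun hx => ⟨ε.symm ⟨x, hx⟩, by simp⟩⟩
      refine ⟨fun i => ε i, [(l : T)], ?_, ?_, by simp; omega⟩
      · rw [hr, Ideal.ofList_singleton, ← Ideal.span_union, Set.union_singleton, ← Finset.coe_insert,
          Finset.insert_erase l.2, hgp]
      · rw [hr, Ideal.map_span]
        have := congrArg (Submodule.map (maximalIdeal A).subtype) hrest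
        rw [Submodule.map_span, Submodule.map_top, Submodule.range_subtype, ← Set.image_comp] at this
        rw [← this]
        show Ideal.span _ = Ideal.span _
        congr 1
        ext y
        simp only [Set.mem_image, Finset.mem_coe, Finset.mem_erase, Set.mem_compl_iff, Set.mem_singleton_iff,
          Function.comp_apply]
        constructor
        · rintro ⟨x, ⟨hne, hx⟩, rfl⟩; exact ⟨⟨x, hx⟩, fun hh => hne (congrArg Subtype.val hh), rfl⟩
        · rintro ⟨x, hne, rfl⟩; exact ⟨x, ⟨fun hh => hne (Subtype.ext hh), x.2⟩, rfl⟩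
  obtain ⟨t, ht, hreg⟩ := exists_perturb p h a hh.ge
  have hap : ∀ i, a i ∈ p := fun i => hspan ▸ Ideal.mem_sup_left (Ideal.subset_span ⟨i, rfl⟩)
  have htp : ∀ i, t i ∈ p := fun i => by
    have := add_mem (Ideal.mul_le_left (ht i)) (hap i)
    simpa using this
  have hLt : Ideal.ofList (List.ofFn t) = Ideal.span (Set.range t) := by
    rw [Ideal.ofList]; congr 1; ext x; simp [List.mem_ofFn]
  set ts := List.ofFn t ++ e with hts
  have hts' : Ideal.ofList ts = p := by
    rw [hts, Ideal.ofList_append, hLt]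
    have hle : Ideal.span (Set.range t) ⊔ Ideal.ofList e ≤ p :=
      sup_le (Ideal.span_le.2 (by rintro _ ⟨i, rfl⟩; exact htp i)) (le_trans le_sup_right hspan.le)
    refine le_antisymm hle (Submodule.le_of_le_smul_of_le_jacobson_bot (I := p) hfg
      ((le_maximalIdeal (Ideal.IsPrime.ne_top inferInstance)).trans (maximalIdeal_le_jacobson _)) ?_)
    refine le_trans hspan.ge (sup_le (Ideal.span_le.2 ?_) (le_trans le_sup_right le_sup_left))
    rintro _ ⟨i, rfl⟩
    have : a i = t i - (t i - a i) := by ring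
    rw [this]
    refine sub_mem (Ideal.mem_sup_left (Ideal.mem_sup_left (Ideal.subset_span ⟨i, rfl⟩))) (Ideal.mem_sup_right ?_)
    exact ht i
  have htloc : (Ideal.ofList (List.ofFn t)).map α = maximalIdeal A := by
    rw [hLt]
    refine le_antisymm ((Ideal.map_mono (Ideal.span_le.2 (by rintro _ ⟨i, rfl⟩; exact htp i))).trans hmax.le) ?_
    refine Submodule.le_of_le_smul_of_le_jacobson_bot (I := maximalIdeal A) (maximalIdeal A).fg_of_isNoetherianRing
      (maximalIdeal_le_jacobson _) ?_
    rw [smul_eq_mul]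
    conv_lhs => rw [← hloc]
    rw [Ideal.map_le_iff_le_comap, Ideal.span_le]
    rintro _ ⟨i, rfl⟩
    have : a i = t i - (t i - a i) := by ring
    simp only [SetLike.mem_coe, Ideal.mem_comap]
    rw [this, map_sub]
    refine sub_mem (Ideal.mem_sup_left (Ideal.mem_map_of_mem α (Ideal.subset_span ⟨i, rfl⟩))) (Ideal.mem_sup_right ?_)
    have := Ideal.mem_map_of_mem α (ht i)
    rwa [Ideal.map_mul, hmax] at this
  refine ⟨ts, hts', isDSeq_minimal p ts hts' (by rw [hts, List.length_append, List.length_ofFn]; omega), ?_⟩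
  intro i k hk hik
  have hlt : ts.length = h + e.length := by rw [hts, List.length_append, List.length_ofFn]
  rcases Nat.lt_or_ge i h with hi | hi
  · refine colon_eq_of_regular ts i (by omega) ?_ _
    have := hreg.regular_mod_prev i (by simpa using hi)
    have e1 : ts.take i = (List.ofFn t).take i := by
      rw [hts, List.take_append_of_le_length (by simp; omega)]
    have e2 : ts[i]'(by omega) = (List.ofFn t)[i]'(by simpa using hi) := by
      simp only [hts]; rw [List.getElem_append_left]
    rw [e1, e2]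
    exact this
  · have hel : e.length ≤ 1 := by omega
    obtain rfl : i = h := by omega
    obtain rfl : k = i := by omega
    have e1 : ts.take k = List.ofFn t := by
      rw [hts]; exact List.take_left' (by simp)
    rw [e1]
    set x := ts[k] with hx
    have hxp : x ∈ p := hts' ▸ Ideal.subset_span (List.getElem_mem hk)
    obtain ⟨⟨⟨w, hw⟩, s⟩, hs⟩ := (IsLocalization.mem_map_algebraMap_iff p.primeCompl A).1
      (show α x ∈ (Ideal.ofList (List.ofFn t)).map α by rw [htloc, ← hmax]; exact Ideal.mem_map_of_mem α hxp)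
    rw [← map_mul] at hs
    obtain ⟨c, hc'⟩ := (IsLocalization.eq_iff_exists p.primeCompl A).1 hs
    have hS : ((c * s : p.primeCompl) : T) * x ∈ Ideal.ofList (List.ofFn t) := by
      have : ((c * s : p.primeCompl) : T) * x = (c : T) * w := by
        rw [← hc']; push_cast; ring
      rw [this]; exact Ideal.mul_mem_left _ _ hw
    ext y
    rw [mem_ofList_colon, mem_ofList_colon]
    refine ⟨fun hy => mul_mem_of_sq (List.ofFn t) hreg p (by rw [hh, List.length_ofFn]) x ?_ _
      (c * s).2 hS y hy, fun hy => by rw [mul_assoc]; exact Ideal.mul_mem_left _ _ hy⟩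
    rw [← hts', hts, Ideal.ofList_append]
    refine sup_le_sup_left (Ideal.span_le.2 fun z hz => Ideal.subset_span ?_) _
    obtain ⟨m, hm, rfl⟩ := List.getElem_of_mem hz
    obtain rfl : m = 0 := by omega
    simp [hx, hts]

end Groth.Agent.DSeq7
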